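import Groth.Agent.Lib.KCoh4.Thick
import Groth.Agent.Lib.ModM1.Extend
import Groth.Agent.Lib.ModM1.Push
import Groth.Agent.Lib.ModM1.FibreProd
import Groth.Prelude.Def_SGA6

/-!
# The localization sequence for K-groups of coherent modules
-/

set_option autoImplicit false
set_option linter.style.haveILetI false
set_option backward.isDefEq.respectTransparency false
set_option backward.isDefEq.respectTransparency.types false

universe u

open CategoryTheory CategoryTheory.Limits AlgebraicGeometry TopologicalSpace Opposite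

namespace Groth.Agent.KCoh4

open Groth.Agent Groth.Agent.CohFound

/-- The map of K-groups sends a class to the class of the image. -/
theorem mapSub_kc {X Y : Scheme.{u}} (F : X.Modules ⥤ Y.Modules) [F.Additive] [PreservesFiniteLimits F]
    [PreservesFiniteColimits F] (h : ∀ M : X.Modules, Coh.IsCoh M → Coh.IsCoh (F.obj M)) {M : X.Modules}
    (hM : Coh.IsCoh M) :
    SGA6.mapSub F (fun M : X.Modules => Coh.IsCoh M) (fun M : Y.Modules => Coh.IsCoh M) h (kc M) = kc (F.obj M) := by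
  rw [kc, kc, K0Cat.clSub_of_prop (P := fun M : X.Modules => Coh.IsCoh M) hM,
    K0Cat.clSub_of_prop (P := fun M : Y.Modules => Coh.IsCoh M) (h M hM)]
  simp [SGA6.mapSub, SGA6.objMap, FreeAbelianGroup.map_of_apply]

section Loc

variable {X U : Scheme.{u}} (j : U ⟶ X) [IsOpenImmersion j]

local notation "R" => Scheme.Modules.restrictFunctor j
local notation "P" => Scheme.Modules.pushforward j

/-- `α` exhibits `F` as an extension of `M`. -/
def IsExt {F : X.Modules} {M : U.Modules} (α : F ⟶ (P).obj M) : Prop := IsIso ((R).map α)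

theorem isZero_of_stalks {Y : Scheme.{u}} {M : Y.Modules} (h : ∀ x : Y, Subsingleton (M.presheaf.stalk x)) :
    IsZero M := by
  have hm : Mono (0 : M ⟶ M) := (M1.mono_iff_stalk _).2 fun x => fun v w _ => @Subsingleton.elim _ (h x) v w
  rw [IsZero.iff_id_eq_zero, ← cancel_mono (0 : M ⟶ M)]
  simp

theorem support_subset_of_isZero {Z : Set X} (hZ : Set.range j = Zᶜ) {K : X.Modules} (h : IsZero ((R).obj K)) :
    CohB1.support K ⊆ Z := fun x hx => by
  by_contra hxZ
  obtain ⟨z, rfl⟩ : x ∈ Set.range j := by rw [hZ]; exact hxZ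
  refine (M1.subsingleton_stalk_restrict_iff j K z).2 hx ?_
  exact AddCommGrpCat.subsingleton_of_isZero ((M1.stalkAb z).map_isZero h)

theorem isZero_of_support {Z : Set X} (hZ : Set.range j = Zᶜ) {K : X.Modules} (h : CohB1.support K ⊆ Z) :
    IsZero ((R).obj K) :=
  isZero_of_stalks fun z => by
    by_contra hz
    have h1 : j z ∈ Z := h ((M1.subsingleton_stalk_restrict_iff j K z).1 hz)
    have h2 : j z ∈ Zᶜ := hZ ▸ ⟨z, rfl⟩
    exact h2 h1

theorem isCoh_image [IsNoetherian X] {F N : X.Modules} (hF : Coh.IsCoh F) (hN : Coh.IsQCoh N) (q : F ⟶ N) :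
    Coh.IsCoh (Abelian.image q) :=
  ⟨M1.isQCoh_kernel hN (M1.isQCoh_cokernel hF.1 hN q) (cokernel.π q), M1.isFT_of_epi (Abelian.factorThruImage q) hF.2⟩

theorem isQCoh_pushOpen [IsNoetherian X] {M : U.Modules} (hM : Coh.IsQCoh M) : Coh.IsQCoh ((P).obj M) :=
  M1.isQCoh_push j hM

theorem exists_ext [IsNoetherian X] {M : U.Modules} (hM : Coh.IsCoh M) :
    ∃ (F : X.Modules) (α : F ⟶ (P).obj M), Coh.IsCoh F ∧ IsExt j α := by
  let N := (P).obj M
  let e₀ : N.restrict j ≅ M := asIso ((Scheme.Modules.restrictAdjunction j).counit.app M)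
  let H : M1.Sub (N.restrict j) := ⟨N.restrict j, 𝟙 _, inferInstance⟩
  let p₀ := M1.Sub.ext j H
  obtain ⟨e, he⟩ := M1.Sub.exists_iso (p₀.res j) H (M1.Sub.mem_res_ext j H)
  have hq₀ : Coh.IsQCoh (p₀.P.restrict j) := M1.isQCoh_of_isIso (e ≪≫ e₀).symm hM.1
  have hf₀ : CohB1.IsFT (p₀.P.restrict j) := M1.isFT_of_isIso (e ≪≫ e₀).symm hM.2
  have hr : Set.range j ⊆ Set.range j.opensRange.ι := by
    rw [Scheme.Opens.range_ι, Scheme.Hom.coe_opensRange]
  have hc (y : (j.opensRange : Scheme.{u})) : ∃ _ : Unit, y ∈ Set.range (IsOpenImmersion.lift j.opensRange.ι j hr) := by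
    obtain ⟨z, hz⟩ : j.opensRange.ι y ∈ Set.range j := y.2
    refine ⟨(), z, j.opensRange.ι.isOpenEmbedding.injective ?_⟩
    rw [← Scheme.Hom.comp_apply, IsOpenImmersion.lift_fac]
    exact hz
  have hFT : M1.Sub.FTOn p₀ j.opensRange :=
    ⟨M1.isQCoh_of_openImmersion_cover _ hc fun _ =>
      M1.isQCoh_of_isIso (M1.restrictLiftIso p₀.P j.opensRange.ι j hr).symm hq₀,
    M1.isFT_of_openImmersion_cover _ hc fun _ =>
      M1.isFT_of_isIso (M1.restrictLiftIso p₀.P j.opensRange.ι j hr).symm hf₀⟩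
  obtain ⟨q, hqQ, hqF, hag⟩ := M1.Sub.exists_extend_noetherian (isQCoh_pushOpen j hM.1)
    (fun x => ⟨⊤, trivial, (inferInstance : TopologicalSpace.NoetherianSpace (Set.univ : Set X))⟩) p₀ _ hFT
  obtain ⟨e', he'⟩ := M1.Sub.exists_res_iso j q p₀ hag.symm
  refine ⟨q.P, q.i, ⟨hqQ, hqF⟩, ?_⟩
  have h1 : e'.inv ≫ (R).map q.i = (p₀.res j).i := (Iso.inv_comp_eq _).2 he'.symm
  have h2 : e.inv ≫ (p₀.res j).i = H.i := (Iso.inv_comp_eq _).2 he.symm
  rw [← h1] at h2
  show IsIso ((R).map q.i)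
  haveI : IsIso (e'.inv ≫ (R).map q.i) := by
    haveI : IsIso (e.inv ≫ e'.inv ≫ (R).map q.i) := by rw [h2]; exact inferInstanceAs (IsIso (𝟙 _))
    exact IsIso.of_isIso_comp_left e.inv _
  exact IsIso.of_isIso_comp_left e'.inv _

variable [PreservesFiniteLimits (Scheme.Modules.restrictFunctor j)]
variable {H : AddSubgroup (KZero.K0sub (fun M : X.Modules => Coh.IsCoh M))}

/-- A morphism inverted by restriction does not change classes modulo `H`. -/
theorem sub_mem_of_isIso [IsNoetherian X]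
    (hH : ∀ K : X.Modules, Coh.IsCoh K → IsZero ((R).obj K) → kc K ∈ H)
    {F T : X.Modules} (hF : Coh.IsCoh F) (hT : Coh.IsCoh T) (β : F ⟶ T) [IsIso ((R).map β)] :
    kc F - kc T ∈ H := by
  have hk := M1.isCoh_kernel hF hT.1 β
  have hc := M1.isCoh_cokernel hF.1 hT β
  have hi := isCoh_image hF hT.1 β
  have h1 : kc F = kc (kernel β) + kc (Abelian.image β) := kc_ses (K0Cat.shortExact_kernel_image β) hk hF hi
  let S : ShortComplex X.Modules := ShortComplex.mk (Abelian.image.ι β) (cokernel.π β) (kernel.condition _)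
  have hS : S.ShortExact := ShortComplex.ShortExact.mk' (ShortComplex.exact_of_f_is_kernel _ (kernelIsKernel _))
    inferInstance inferInstance
  have h2 : kc T = kc (Abelian.image β) + kc (cokernel β) := kc_ses hS hi hT hc
  have hkz : IsZero ((R).obj (kernel β)) :=
    (isZero_kernel_of_mono ((R).map β)).of_iso (PreservesKernel.iso (R) β)
  have hcz : IsZero ((R).obj (cokernel β)) :=
    (isZero_cokernel_of_epi ((R).map β)).of_iso (PreservesCokernel.iso (R) β)
  have h3 : kc F - kc T = kc (kernel β) - kc (cokernel β) := by rw [h1, h2]; abel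
  rw [h3]
  exact H.sub_mem (hH _ hk hkz) (hH _ hc hcz)

/-- Two extensions have the same class modulo `H`. -/
theorem sub_mem_of_isExt [IsNoetherian X]
    (hH : ∀ K : X.Modules, Coh.IsCoh K → IsZero ((R).obj K) → kc K ∈ H)
    {M : U.Modules} (hM : Coh.IsCoh M) {F F' : X.Modules} (hF : Coh.IsCoh F) (hF' : Coh.IsCoh F')
    {α : F ⟶ (P).obj M} {α' : F' ⟶ (P).obj M} (h : IsExt j α) (h' : IsExt j α') : kc F - kc F' ∈ H := by
  let q : F ⊞ F' ⟶ (P).obj M := biprod.desc α α'
  have hT := isCoh_image (M1.isCoh_biprod hF hF') (isQCoh_pushOpen j hM.1) q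
  have key : ∀ {G : X.Modules} (γ : G ⟶ F ⊞ F'), IsIso ((R).map (γ ≫ q)) →
      IsIso ((R).map (γ ≫ Abelian.factorThruImage q)) := fun {G} γ hγ => by
    have e : (R).map (γ ≫ Abelian.factorThruImage q) ≫ (R).map (Abelian.image.ι q) = (R).map (γ ≫ q) := by
      rw [← Functor.map_comp, Category.assoc, Abelian.image.fac]
    haveI hi' : IsIso ((R).map (γ ≫ Abelian.factorThruImage q) ≫ (R).map (Abelian.image.ι q)) := e ▸ hγ
    haveI : Epi ((R).map (γ ≫ Abelian.factorThruImage q) ≫ (R).map (Abelian.image.ι q)) := @IsIso.epi_of_iso _ _ _ _ _ hi'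
    haveI : Epi ((R).map (Abelian.image.ι q)) :=
      epi_of_epi ((R).map (γ ≫ Abelian.factorThruImage q)) ((R).map (Abelian.image.ι q))
    haveI : IsIso ((R).map (Abelian.image.ι q)) := isIso_of_mono_of_epi _
    exact IsIso.of_isIso_comp_right _ ((R).map (Abelian.image.ι q))
  haveI := key biprod.inl (by rw [biprod.inl_desc]; exact h)
  haveI := key biprod.inr (by rw [biprod.inr_desc]; exact h')
  have h1 := sub_mem_of_isIso j hH hF hT (biprod.inl ≫ Abelian.factorThruImage q)
  have h2 := sub_mem_of_isIso j hH hF' hT (biprod.inr ≫ Abelian.factorThruImage q)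
  have h3 := H.sub_mem h1 h2
  rwa [sub_sub_sub_cancel_right] at h3

/-- Short exact sequences extend. -/
theorem exists_ext_ses [IsNoetherian X] {S : ShortComplex U.Modules} (hS : S.ShortExact)
    (h₂ : Coh.IsCoh S.X₂) (h₃ : Coh.IsCoh S.X₃) :
    ∃ (K F T : X.Modules) (a : K ⟶ (P).obj S.X₁) (b : F ⟶ (P).obj S.X₂) (c : T ⟶ (P).obj S.X₃),
      Coh.IsCoh K ∧ Coh.IsCoh F ∧ Coh.IsCoh T ∧ IsExt j a ∧ IsExt j b ∧ IsExt j c ∧ kc F = kc K + kc T := by
  haveI := hS.mono_f
  haveI := hS.epi_g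
  obtain ⟨F, α, hF, hα⟩ := exists_ext j h₂
  haveI : IsIso ((R).map α) := hα
  let q : F ⟶ (P).obj S.X₃ := α ≫ (P).map S.g
  have hQ3 : Coh.IsQCoh ((P).obj S.X₃) := isQCoh_pushOpen j h₃.1
  have hK := M1.isCoh_kernel hF hQ3 q
  have hT := isCoh_image hF hQ3 q
  let S₁ : ShortComplex X.Modules := ShortComplex.mk (kernel.ι q) (Abelian.factorThruImage q)
    (by rw [← cancel_mono (Abelian.image.ι q), Category.assoc, Abelian.image.fac, zero_comp, kernel.condition])
  have hS₁ : S₁.ShortExact := K0Cat.shortExact_kernel_image q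
  have hE : (S.map (P)).Exact := hS.exact.map_of_mono_of_preservesKernel (P) inferInstance inferInstance
  haveI : Mono (S.map (P)).f := inferInstanceAs (Mono ((P).map S.f))
  let a : kernel q ⟶ (P).obj S.X₁ := hE.lift (kernel.ι q ≫ α) ((Category.assoc _ _ _).trans (kernel.condition q))
  have ha : a ≫ (P).map S.f = kernel.ι q ≫ α := hE.lift_f _ _
  let ε := (Scheme.Modules.restrictAdjunction j).counit
  let φ : S₁.map (R) ⟶ S :=
    { τ₁ := (R).map a ≫ ε.app S.X₁
      τ₂ := (R).map α ≫ ε.app S.X₂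
      τ₃ := (R).map (Abelian.image.ι q) ≫ ε.app S.X₃
      comm₁₂ := by
        show ((R).map a ≫ ε.app S.X₁) ≫ S.f = (R).map (kernel.ι q) ≫ (R).map α ≫ ε.app S.X₂
        rw [← Functor.map_comp_assoc, ← ha, Functor.map_comp, Category.assoc, Category.assoc]
        exact congrArg _ (ε.naturality S.f).symm
      comm₂₃ := by
        show ((R).map α ≫ ε.app S.X₂) ≫ S.g = (R).map (Abelian.factorThruImage q) ≫ (R).map (Abelian.image.ι q) ≫ ε.app S.X₃
        rw [← Functor.map_comp_assoc, Abelian.image.fac, Functor.map_comp, Category.assoc, Category.assoc]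
        exact congrArg _ (ε.naturality S.g).symm }
  have h₁' : (S₁.map (R)).ShortExact := hS₁.map_of_exact (R)
  haveI : IsIso φ.τ₂ := inferInstanceAs (IsIso ((R).map α ≫ ε.app S.X₂))
  haveI : IsIso φ.τ₃ := by
    haveI : Mono φ.τ₃ := inferInstanceAs (Mono ((R).map (Abelian.image.ι q) ≫ ε.app S.X₃))
    haveI : Epi ((S₁.map (R)).g ≫ φ.τ₃) := by rw [← φ.comm₂₃]; exact epi_comp _ _
    haveI : Epi φ.τ₃ := epi_of_epi (S₁.map (R)).g φ.τ₃
    exact isIso_of_mono_of_epi _
  haveI : IsIso φ.τ₁ := by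
    haveI := h₁'.mono_f
    haveI : Mono (φ.τ₁ ≫ S.f) := by rw [φ.comm₁₂]; exact mono_comp _ _
    haveI : Mono φ.τ₁ := mono_of_mono φ.τ₁ S.f
    let l := h₁'.exact.lift (S.f ≫ inv φ.τ₂) (by
      rw [← cancel_mono φ.τ₃, Category.assoc, Category.assoc, zero_comp, ← φ.comm₂₃, IsIso.inv_hom_id_assoc, S.zero])
    have hl : l ≫ φ.τ₁ = 𝟙 _ := by
      rw [← cancel_mono S.f, Category.assoc, φ.comm₁₂, ← Category.assoc, h₁'.exact.lift_f, Category.assoc,
        IsIso.inv_hom_id, Category.comp_id, Category.id_comp]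
    haveI : Epi φ.τ₁ := @IsSplitEpi.epi _ _ _ _ _ ⟨⟨⟨l, hl⟩⟩⟩
    exact isIso_of_mono_of_epi _
  refine ⟨kernel q, F, Abelian.image q, a, α, Abelian.image.ι q, hK, hF, hT, ?_, hα, ?_, kc_ses hS₁ hK hF hT⟩
  · haveI : IsIso ((R).map a ≫ ε.app S.X₁) := inferInstanceAs (IsIso φ.τ₁)
    exact IsIso.of_isIso_comp_right _ (ε.app S.X₁)
  · haveI : IsIso ((R).map (Abelian.image.ι q) ≫ ε.app S.X₃) := inferInstanceAs (IsIso φ.τ₃)
    exact IsIso.of_isIso_comp_right _ (ε.app S.X₃)

/-- The inverse of restriction modulo `H`. -/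
theorem exists_inverse [IsNoetherian X]
    (hH : ∀ K : X.Modules, Coh.IsCoh K → IsZero ((R).obj K) → kc K ∈ H) :
    ∃ ψ : KZero.K0sub (fun M : U.Modules => Coh.IsCoh M) →+ KZero.K0sub (fun M : X.Modules => Coh.IsCoh M) ⧸ H,
      ∀ (M : U.Modules), Coh.IsCoh M → ∀ (F : X.Modules) (α : F ⟶ (P).obj M), Coh.IsCoh F → IsExt j α →
        ψ (kc M) = QuotientAddGroup.mk' H (kc F) := by
  choose F α hF hα using fun M : Subtype (fun M : U.Modules => Coh.IsCoh M) => exists_ext j M.2
  have uniq : ∀ (M : Subtype (fun M : U.Modules => Coh.IsCoh M)) (G : X.Modules) (β : G ⟶ (P).obj M.1),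
      Coh.IsCoh G → IsExt j β → QuotientAddGroup.mk' H (kc (F M)) = QuotientAddGroup.mk' H (kc G) :=
    fun M G β hG hβ => by
      rw [← sub_eq_zero, ← map_sub, ← AddMonoidHom.mem_ker, QuotientAddGroup.ker_mk']
      exact sub_mem_of_isExt j hH M.2 (hF M) hG (hα M) hβ
  refine ⟨K0Cat.liftSub (fun M => QuotientAddGroup.mk' H (kc (F M))) ?_, fun M hM G β hG hβ => ?_⟩
  · intro S h₁ h₂ h₃ hS
    obtain ⟨K, G, T, a, b, c, hK, hG, hT, ha, hb, hc, e⟩ := exists_ext_ses j hS h₂ h₃
    rw [uniq ⟨_, h₁⟩ K a hK ha, uniq ⟨_, h₂⟩ G b hG hb, uniq ⟨_, h₃⟩ T c hT hc, e, map_add]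
  · exact (K0Cat.liftSub_clSub _ _ hM).trans (uniq ⟨M, hM⟩ G β hG hβ)

end Loc

/-- The localization sequence. -/
theorem localization {X X' U : Scheme.{u}} [IsNoetherian X] (i : X' ⟶ X) [IsClosedImmersion i]
    (j : U ⟶ X) [IsOpenImmersion j] (hU : Set.range j = (Set.range i)ᶜ)
    [(Scheme.Modules.pushforward i).Additive] [PreservesFiniteLimits (Scheme.Modules.pushforward i)]
    [PreservesFiniteColimits (Scheme.Modules.pushforward i)]
    [PreservesFiniteLimits (Scheme.Modules.restrictFunctor j)]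
    (hi : ∀ M : X'.Modules, Coh.IsCoh M → Coh.IsCoh ((Scheme.Modules.pushforward i).obj M))
    (hj : ∀ M : X.Modules, Coh.IsCoh M → Coh.IsCoh ((Scheme.Modules.restrictFunctor j).obj M)) :
    Function.Surjective (SGA6.mapSub (Scheme.Modules.restrictFunctor j) (fun M : (X).Modules => Coh.IsCoh M)
        (fun M : (U).Modules => Coh.IsCoh M) hj) ∧
      (SGA6.mapSub (Scheme.Modules.restrictFunctor j) (fun M : (X).Modules => Coh.IsCoh M) (fun M : (U).Modules => Coh.IsCoh M) hj).ker =
        (SGA6.mapSub (Scheme.Modules.pushforward i) (fun M : (X').Modules => Coh.IsCoh M) (fun M : (X).Modules => Coh.IsCoh M) hi).range := by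
  haveI : IsLocallyNoetherian X' := LocallyOfFiniteType.isLocallyNoetherian i
  haveI : CompactSpace X' := QuasiCompact.compactSpace_of_compactSpace i
  haveI : IsNoetherian X' := {}
  haveI : IsLocallyNoetherian U := isLocallyNoetherian_of_isOpenImmersion j
  haveI : CompactSpace U := QuasiCompact.compactSpace_of_compactSpace j
  haveI : IsNoetherian U := {}
  let μ := SGA6.mapSub (Scheme.Modules.pushforward i) (fun M : (X').Modules => Coh.IsCoh M) (fun M : (X).Modules => Coh.IsCoh M) hi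
  let ρ := SGA6.mapSub (Scheme.Modules.restrictFunctor j) (fun M : (X).Modules => Coh.IsCoh M) (fun M : (U).Modules => Coh.IsCoh M) hj
  have hH : ∀ K : X.Modules, Coh.IsCoh K → IsZero ((Scheme.Modules.restrictFunctor j).obj K) → kc K ∈ μ.range := by
    intro K hK hz
    refine mem_of_support μ.range (fun η hη => ?_) hK (support_subset_of_isZero j hU hz)
    have hk : Killed i (NumPoly18.ptMod η) := ⟨NumPoly18.isCoh_ptMod η, fun V a ha s =>
      ker_smul_push (NumPoly18.ptIdeal η).subschemeι _ V a (by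
        rw [Scheme.IdealSheafData.ker_subschemeι]
        refine (Scheme.IdealSheafData.le_support_iff_le_vanishingIdeal.1 ?_) V ha
        show closure ({η} : Set X) ⊆ (i.ker.support : Set X)
        rw [Scheme.Hom.support_ker]
        exact (closure_mono (Set.singleton_subset_iff.2 hη))) s⟩
    refine ⟨kc ((Scheme.Modules.pullback i).obj (NumPoly18.ptMod η)), ?_⟩
    rw [mapSub_kc _ hi (M1.isCoh_pullback i hk.1)]
    haveI := M1.isIso_unit_of_ker_smul i _ hk.1.1 hk.2
    exact kc_iso (asIso ((Scheme.Modules.pullbackPushforwardAdjunction i).unit.app (NumPoly18.ptMod η))).symm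
  obtain ⟨ψ, hψ⟩ := exists_inverse j hH
  have hρψ : ∀ x, ψ (ρ x) = QuotientAddGroup.mk' μ.range x := fun x => by
    induction x using K0Cat.clSub_induction with
    | h0 => simp
    | hcl F hF =>
      rw [mapSub_kc _ hj hF]
      refine hψ _ (hj F hF) F ((Scheme.Modules.restrictAdjunction j).unit.app F) hF ?_
      haveI : IsIso ((Scheme.Modules.restrictFunctor j).map ((Scheme.Modules.restrictAdjunction j).unit.app F) ≫
          (Scheme.Modules.restrictAdjunction j).counit.app ((Scheme.Modules.restrictFunctor j).obj F)) := by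
        rw [(Scheme.Modules.restrictAdjunction j).left_triangle_components F]; infer_instance
      exact IsIso.of_isIso_comp_right _
        ((Scheme.Modules.restrictAdjunction j).counit.app ((Scheme.Modules.restrictFunctor j).obj F))
    | hneg a h => rw [map_neg, map_neg, map_neg, h]
    | hadd a b h1 h2 => rw [map_add, map_add, map_add, h1, h2]
  refine ⟨fun y => ?_, le_antisymm (fun x hx => ?_) ?_⟩
  · show ∃ x, ρ x = y
    induction y using K0Cat.clSub_induction with
    | h0 => exact ⟨0, map_zero ρ⟩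
    | hcl M hM =>
      obtain ⟨F, α, hF, hα⟩ := exists_ext j hM
      haveI : IsIso ((Scheme.Modules.restrictFunctor j).map α) := hα
      exact ⟨kc F, (mapSub_kc _ hj hF).trans (kc_iso (asIso ((Scheme.Modules.restrictFunctor j).map α) ≪≫
        asIso ((Scheme.Modules.restrictAdjunction j).counit.app M)))⟩
    | hneg a h => obtain ⟨x, rfl⟩ := h; exact ⟨-x, map_neg ρ x⟩
    | hadd a b h1 h2 => obtain ⟨x, rfl⟩ := h1; obtain ⟨y, rfl⟩ := h2; exact ⟨x + y, map_add ρ x y⟩
  · show x ∈ μ.range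
    have h := hρψ x
    rw [show ρ x = 0 from hx, map_zero] at h
    rw [← QuotientAddGroup.ker_mk' μ.range, AddMonoidHom.mem_ker, ← h]
  · rintro _ ⟨y, rfl⟩
    show ρ (μ y) = 0
    induction y using K0Cat.clSub_induction with
    | h0 => simp
    | hcl M hM =>
      rw [mapSub_kc _ hi hM, mapSub_kc _ hj (hi M hM)]
      exact K0Cat.clSub_of_isZero (isZero_of_support j hU (support_push_subset i M)) (hj _ (hi M hM))
    | hneg a h => rw [map_neg, map_neg, h, neg_zero]
    | hadd a b h1 h2 => rw [map_add, map_add, h1, h2, add_zero]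

end Groth.Agent.KCoh4
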