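import Groth.Agent.Lib.NumPoly18.Euler
import Groth.Agent.Lib.K0Cat.Basic
import Groth.Prelude.Def_ChowK

/-!
# The filtration of the K-group of coherent modules by dimension of supports
-/

set_option autoImplicit false
set_option linter.style.haveILetI false
set_option backward.isDefEq.respectTransparency false

universe u

open CategoryTheory CategoryTheory.Limits AlgebraicGeometry TopologicalSpace Opposite

namespace Groth.Agent.KCoh4

open Groth.Agent Groth.Agent.CohFound

variable {X : Scheme.{u}}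

/-- The class of a coherent module. -/
noncomputable abbrev kc (F : X.Modules) : KZero.K0sub (fun M : X.Modules => Coh.IsCoh M) :=
  KZero.clSub (fun M : X.Modules => Coh.IsCoh M) F

theorem kc_ses {S : ShortComplex X.Modules} (hS : S.ShortExact) (h₁ : Coh.IsCoh S.X₁) (h₂ : Coh.IsCoh S.X₂)
    (h₃ : Coh.IsCoh S.X₃) : kc S.X₂ = kc S.X₁ + kc S.X₃ :=
  K0Cat.clSub_ses (P := fun M : X.Modules => Coh.IsCoh M) S hS h₁ h₂ h₃

theorem kc_iso [IsNoetherian X] {M N : X.Modules} (e : M ≅ N) : kc M = kc N := by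
  by_cases hM : Coh.IsCoh M
  · have hN : Coh.IsCoh N := ⟨M1.isQCoh_of_isIso e hM.1, M1.isFT_of_isIso e hM.2⟩
    have hZ : IsZero (cokernel (𝟙 M)) := isZero_cokernel_of_epi _
    have hc : Coh.IsCoh (cokernel (𝟙 M)) := M1.isCoh_cokernel hM.1 hM (𝟙 M)
    have h : (ShortComplex.mk e.hom (0 : N ⟶ cokernel (𝟙 M)) comp_zero).ShortExact :=
      ShortComplex.shortExact_of_iso
        (ShortComplex.isoMk (S₁ := ShortComplex.mk (𝟙 M) (0 : M ⟶ cokernel (𝟙 M)) comp_zero)
          (Iso.refl _) e (Iso.refl _) (by simp) (by simp))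
        (K0Cat.shortExact_id_zero hZ)
    have := kc_ses h hM hN hc
    rw [show kc (cokernel (𝟙 M)) = 0 from K0Cat.clSub_of_isZero hZ hc, add_zero] at this
    exact this.symm
  · have hN : ¬ Coh.IsCoh N := fun hN => hM ⟨M1.isQCoh_of_isIso e.symm hN.1, M1.isFT_of_isIso e.symm hN.2⟩
    rw [kc, kc, KZero.clSub, KZero.clSub, dif_neg hM, dif_neg hN]

/-- The structure sheaves of integral closed subschemes with generic point in `Z₀` generate. -/
theorem mem_of_support [IsNoetherian X] (H : AddSubgroup (KZero.K0sub (fun M : X.Modules => Coh.IsCoh M)))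
    {Z₀ : Set X} (hH : ∀ η ∈ Z₀, kc (NumPoly18.ptMod η) ∈ H) {F : X.Modules} (hF : Coh.IsCoh F)
    (hF₀ : CohB1.support F ⊆ Z₀) : kc F ∈ H := by
  have hP : TwoOfThreeOn (fun M : X.Modules => kc M ∈ H) Z₀ :=
    { of_isZero := fun M hM hz => by
        show kc M ∈ H
        rw [show kc M = 0 from K0Cat.clSub_of_isZero hz hM]; exact H.zero_mem
      mid := fun S hS a b c _ p q => by
        show kc S.X₂ ∈ H
        rw [kc_ses hS a b c]; exact H.add_mem p q
      left := fun S hS a b c _ p q => by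
        show kc S.X₁ ∈ H
        rw [← add_sub_cancel_right (kc S.X₁) (kc S.X₃), ← kc_ses hS a b c]; exact H.sub_mem p q
      right := fun S hS a b c _ p q => by
        show kc S.X₃ ∈ H
        rw [← add_sub_cancel_left (kc S.X₁) (kc S.X₃), ← kc_ses hS a b c]; exact H.sub_mem q p }
  exact hP.holds (fun η hη => NumPoly18.nonempty_model (fun M N e h => by
    show kc N ∈ H
    rw [← kc_iso e.some]; exact h) η (hH η hη)) hF hF₀

theorem ptMod_eq (η : X) : NumPoly18.ptMod η = Cyc.closureStructureSheaf η := rfl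

/-- The dimension filtration is generated by integral closed subschemes. -/
theorem filt_eq [IsNoetherian X] (n : ℕ) :
    AddSubgroup.closure {c : KZero.K0sub (fun M : X.Modules => Coh.IsCoh M) |
        ∃ G : X.Modules, Coh.IsCoh G ∧ topologicalKrullDim ↥(CohB1.support G) ≤ n ∧ c = kc G} =
      AddSubgroup.closure {c : KZero.K0sub (fun M : X.Modules => Coh.IsCoh M) |
        ∃ x : ↥X, topologicalKrullDim ↥(closure ({x} : Set ↥X)) ≤ n ∧ c = kc (Cyc.closureStructureSheaf x)} := by
  apply le_antisymm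
  · rw [AddSubgroup.closure_le]
    rintro _ ⟨G, hG, hd, rfl⟩
    refine SetLike.mem_coe.2 (mem_of_support _ ?_ hG le_rfl)
    intro η hη
    exact AddSubgroup.subset_closure ⟨η, Snapper.dim_le_of_subset
      ((M1.isClosed_support hG.2).closure_subset_iff.2 (Set.singleton_subset_iff.2 hη)) hd, rfl⟩
  · rw [AddSubgroup.closure_le]
    rintro _ ⟨x, hd, rfl⟩
    exact AddSubgroup.subset_closure
      ⟨_, NumPoly18.isCoh_ptMod x, Snapper.dim_le_of_subset (NumPoly18.support_ptMod x) hd, rfl⟩

/-- The class is the cycle of lengths modulo smaller dimensions. -/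
theorem sub_cycle_mem [IsNoetherian X] (n : ℕ) (F : X.Modules) (hF : Coh.IsCoh F)
    (hsupp : topologicalKrullDim ↥(CohB1.support F) ≤ n) :
    kc F - (finsum fun x : ↥X => if topologicalKrullDim ↥(closure ({x} : Set ↥X)) = n then
          (Module.length (X.presheaf.stalk x) (F.presheaf.stalk x)).toNat • kc (Cyc.closureStructureSheaf x) else 0) ∈
      AddSubgroup.closure {c : KZero.K0sub (fun M : X.Modules => Coh.IsCoh M) |
        ∃ G : X.Modules, Coh.IsCoh G ∧ topologicalKrullDim ↥(CohB1.support G) < n ∧ c = kc G} := by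
  classical
  set H := AddSubgroup.closure {c : KZero.K0sub (fun M : X.Modules => Coh.IsCoh M) |
        ∃ G : X.Modules, Coh.IsCoh G ∧ topologicalKrullDim ↥(CohB1.support G) < n ∧ c = kc G}
  let Z := CohB1.support F
  have hZ : IsClosed Z := M1.isClosed_support hF.2
  obtain ⟨T, hT⟩ := NumPoly18.exists_finset_top hZ hsupp
  let len := fun (G : X.Modules) (x : X) => (Module.length (X.presheaf.stalk x) (G.presheaf.stalk x)).toNat
  have hlen0 : ∀ {G : X.Modules} {ξ : X}, ξ ∉ CohB1.support G → len G ξ = 0 := fun {G ξ} h => by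
    haveI : Subsingleton (G.presheaf.stalk ξ) := not_not.1 h
    simp [len, Module.length_eq_zero]
  have hlen : ∀ (G : X.Modules) (ξ : X), NumPoly18.lenAt G ξ = (len G ξ : ℚ) := fun G ξ => rfl
  rw [finsum_eq_sum_of_support_subset _ (s := T) (fun x hx => by
    simp only [Function.mem_support, ne_eq, ite_eq_right_iff, Classical.not_imp] at hx
    refine (hT x).2 ⟨?_, hx.1⟩
    by_contra h
    exact hx.2 (by rw [show (Module.length (X.presheaf.stalk x) (F.presheaf.stalk x)).toNat = 0 from hlen0 h, zero_smul]))]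
  rw [Finset.sum_congr rfl fun x hx => if_pos ((hT x).1 hx).2]
  let P : X.Modules → Prop := fun G => kc G - ∑ ξ ∈ T, len G ξ • kc (Cyc.closureStructureSheaf ξ) ∈ H
  have hiso : ∀ M N : X.Modules, Nonempty (M ≅ N) → P M → P N := fun M N ⟨e⟩ h => by
    have he : ∀ ξ, len N ξ = len M ξ := fun ξ => by
      have := (hlen N ξ).symm.trans ((NumPoly18.lenAt_iso e ξ).symm.trans (hlen M ξ))
      exact_mod_cast this
    show kc N - _ ∈ H
    rw [← kc_iso e, Finset.sum_congr rfl fun ξ _ => by rw [he ξ]]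
    exact h
  have hadd : ∀ S : ShortComplex X.Modules, S.ShortExact → Coh.IsCoh S.X₁ → Coh.IsCoh S.X₂ → Coh.IsCoh S.X₃ →
      CohB1.support S.X₂ ⊆ Z →
        kc S.X₂ - ∑ ξ ∈ T, len S.X₂ ξ • kc (Cyc.closureStructureSheaf ξ) =
          (kc S.X₁ - ∑ ξ ∈ T, len S.X₁ ξ • kc (Cyc.closureStructureSheaf ξ)) +
            (kc S.X₃ - ∑ ξ ∈ T, len S.X₃ ξ • kc (Cyc.closureStructureSheaf ξ)) := by
    intro S hS a b c hs
    have he : ∀ ξ ∈ T, len S.X₂ ξ = len S.X₁ ξ + len S.X₃ ξ := fun ξ hξ => by
      have := NumPoly18.lenAt_shortExact hS a c (ξ := ξ) fun y hy h =>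
        NumPoly18.eq_of_specializes_of_dim hZ hsupp (hs hy) ((hT ξ).1 hξ).2 h
      simp only [hlen] at this
      exact_mod_cast this
    rw [kc_ses hS a b c, Finset.sum_congr rfl fun ξ hξ => by rw [he ξ hξ, add_smul], Finset.sum_add_distrib]
    abel
  have hP : TwoOfThreeOn P Z :=
    { of_isZero := fun M hM hz => by
        show kc M - _ ∈ H
        have hsM : ∀ ξ, len M ξ = 0 := fun ξ => hlen0 fun h =>
          h (AddCommGrpCat.subsingleton_of_isZero ((M1.stalkAb ξ).map_isZero hz))
        rw [show kc M = 0 from K0Cat.clSub_of_isZero hz hM, Finset.sum_eq_zero fun ξ _ => by rw [hsM ξ, zero_smul],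
          sub_zero]
        exact H.zero_mem
      mid := fun S hS a b c hs p q => by
        show kc S.X₂ - _ ∈ H
        rw [hadd S hS a b c hs]; exact H.add_mem p q
      left := fun S hS a b c hs p q => by
        show kc S.X₁ - _ ∈ H
        rw [eq_sub_of_add_eq (hadd S hS a b c hs).symm]; exact H.sub_mem p q
      right := fun S hS a b c hs p q => by
        show kc S.X₃ - _ ∈ H
        rw [eq_sub_of_add_eq ((add_comm _ _).trans (hadd S hS a b c hs).symm)]; exact H.sub_mem q p }
  refine hP.holds (fun η hη => NumPoly18.nonempty_model hiso η ?_) hF le_rfl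
  have hη' : closure ({η} : Set X) ⊆ Z := hZ.closure_subset_iff.2 (Set.singleton_subset_iff.2 hη)
  have hzero : ∀ ξ ∈ T, ξ ≠ η → len (NumPoly18.ptMod η) ξ = 0 := fun ξ hξ hne => hlen0 fun h =>
    hne (NumPoly18.eq_of_specializes_of_dim hZ hsupp hη ((hT ξ).1 hξ).2
      (specializes_iff_mem_closure.2 (NumPoly18.support_ptMod η h))).symm
  show kc (NumPoly18.ptMod η) - _ ∈ H
  by_cases hηT : η ∈ T
  · have h1 : len (NumPoly18.ptMod η) η = 1 := by
      have := NumPoly18.lenAt_ptMod_self η
      rw [hlen] at this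
      exact_mod_cast this
    rw [Finset.sum_eq_single η (fun ξ hξ hne => by rw [hzero ξ hξ hne, zero_smul]) (fun h => (h hηT).elim),
      h1, one_smul, ← ptMod_eq, sub_self]
    exact H.zero_mem
  · rw [Finset.sum_eq_zero fun ξ hξ => by rw [hzero ξ hξ (fun h => hηT (h ▸ hξ)), zero_smul], sub_zero]
    refine AddSubgroup.subset_closure ⟨_, NumPoly18.isCoh_ptMod η, ?_, rfl⟩
    refine lt_of_le_of_lt ?_ (lt_of_le_of_ne (Snapper.dim_le_of_subset hη' hsupp)
      fun h => hηT ((hT η).2 ⟨hη, h⟩))
    exact (Topology.IsEmbedding.inclusion (NumPoly18.support_ptMod η)).isInducing.topologicalKrullDim_le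

end Groth.Agent.KCoh4
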