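import Groth.Agent.Lib.KCoh4.Filt
import Groth.Agent.Lib.KDev4.Basic
import Groth.Agent.Lib.ModM1.Pull
import Groth.Agent.Lib.RelPCS8.ClosedPush
import Groth.Prelude.Def_SGA6

/-!
# Dévissage along a surjective closed immersion
-/

set_option autoImplicit false
set_option linter.style.haveILetI false
set_option backward.isDefEq.respectTransparency false

universe u

open CategoryTheory CategoryTheory.Limits AlgebraicGeometry TopologicalSpace Opposite

namespace Groth.Agent.KCoh4

open Groth.Agent Groth.Agent.CohFound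

variable {X X' : Scheme.{u}} (i : X' ⟶ X)

/-- Coherent modules killed by the ideal of `i`. -/
def Killed : ObjectProperty X.Modules := fun F =>
  Coh.IsCoh F ∧ ∀ (U : X.affineOpens) (a : Γ(X, U.1)), a ∈ i.ker.ideal U → ∀ s : Γ(F, U.1), a • s = 0

/-- The class of the pullback. -/
noncomputable def pullCl (F : X.Modules) : KZero.K0sub (fun M : X'.Modules => Coh.IsCoh M) :=
  kc ((Scheme.Modules.pullback i).obj F)

theorem killed_of_mono {F G : X.Modules} (f : F ⟶ G) [Mono f] (hF : Coh.IsCoh F) (hG : Killed i G) : Killed i F := by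
  refine ⟨hF, fun U a ha s => ?_⟩
  haveI : Mono ((Scheme.Modules.toPresheaf X).map f) := inferInstance
  refine M1.section_ext _ _ fun x hx => ?_
  refine stL_injective_of_mono f x ?_
  rw [stL_germ, stL_germ]
  congr 1
  exact (f.app_smul a s).trans ((hG.2 U a ha _).trans (map_zero _).symm)

theorem killed_of_epi {F G : X.Modules} (f : F ⟶ G) [Epi f] (hG : Coh.IsCoh G) (hF : Killed i F) : Killed i G := by
  refine ⟨hG, fun U a ha s => ?_⟩
  haveI := hF.1.1
  refine M1.section_ext _ _ fun x hx => ?_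
  rw [M1.germ_smul, map_zero]
  obtain ⟨t, ht⟩ := stL_surjective_of_epi f x (G.presheaf.germ U.1 x hx s)
  rw [← ht, ← map_smul]
  obtain ⟨c, m₀, hc, hm⟩ := M1.exists_germ_smul_eq F U.2 hx t
  have h0 : X.presheaf.germ U.1 x hx a • t = 0 := hc.smul_eq_zero.1 (by
    rw [smul_comm, hm, ← M1.germ_smul, hF.2 U a ha m₀, map_zero])
  rw [h0, map_zero]

variable [IsClosedImmersion i]

theorem killed_push {M : X'.Modules} (hM : Coh.IsCoh M) : Killed i ((Scheme.Modules.pushforward i).obj M) :=
  ⟨CohFound.isCoh_push_closedImm i hM, ker_smul_push i M⟩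

theorem isCoh_iso [IsNoetherian X] {M N : X.Modules} (e : M ≅ N) (h : Coh.IsCoh M) : Coh.IsCoh N :=
  ⟨M1.isQCoh_of_isIso e h.1, M1.isFT_of_isIso e h.2⟩

theorem shortExact_pull {S : ShortComplex X.Modules} (hS : S.ShortExact) (h₁ : Killed i S.X₁) (h₂ : Killed i S.X₂)
    (h₃ : Killed i S.X₃) : (S.map (Scheme.Modules.pullback i)).ShortExact := by
  haveI := M1.isIso_unit_of_ker_smul i S.X₁ h₁.1.1 h₁.2
  haveI := M1.isIso_unit_of_ker_smul i S.X₂ h₂.1.1 h₂.2
  haveI := M1.isIso_unit_of_ker_smul i S.X₃ h₃.1.1 h₃.2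
  let η := (Scheme.Modules.pullbackPushforwardAdjunction i).unit
  have h : ((S.map (Scheme.Modules.pullback i)).map (Scheme.Modules.pushforward i)).ShortExact :=
    ShortComplex.shortExact_of_iso
      (ShortComplex.isoMk (asIso (η.app S.X₁)) (asIso (η.app S.X₂)) (asIso (η.app S.X₃))
        (η.naturality S.f).symm (η.naturality S.g).symm) hS
  exact (CategoryTheory.ShortExact.shortExact_map_iff (Scheme.Modules.pushforward i)).1 h

theorem setup [IsNoetherian X] [IsNoetherian X'] :
    KDev4.Setup (fun M : X.Modules => Coh.IsCoh M) (Killed i) (pullCl i) where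
  iso e h := isCoh_iso e h
  ker f h1 h2 := M1.isCoh_kernel h1 h2.1 f
  coker f h1 h2 := M1.isCoh_cokernel h1.1 h2 f
  le _ h := h.1
  sub f _ h1 h2 := killed_of_mono i f h1 h2
  quot f _ h1 h2 := killed_of_epi i f h1 h2
  zero F hF hz := K0Cat.clSub_of_isZero ((Scheme.Modules.pullback i).map_isZero hz) (M1.isCoh_pullback i hF.1)
  add S hS h₁ h₂ h₃ := kc_ses (shortExact_pull i hS h₁ h₂ h₃) (M1.isCoh_pullback i h₁.1) (M1.isCoh_pullback i h₂.1)
    (M1.isCoh_pullback i h₃.1)

theorem exists_val [IsNoetherian X] [IsNoetherian X'] [Surjective i] (F : X.Modules) (hF : Coh.IsCoh F) :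
    ∃ v, KDev4.Val (fun M : X.Modules => Coh.IsCoh M) (Killed i) (pullCl i) F v := by
  let V := fun M : X.Modules => ∃ v, KDev4.Val (fun M : X.Modules => Coh.IsCoh M) (Killed i) (pullCl i) M v
  have hP : TwoOfThree V :=
    { of_isZero := fun M _ hz => ⟨0, .zero hz⟩
      mid := fun S hS a b c ⟨v, hv⟩ ⟨w, hw⟩ => ⟨v + w, hw.add (setup i) S.f S.g S.zero hS a b hv⟩
      left := fun S hS a b c ⟨v, hv⟩ _ => by
        haveI := hS.mono_f
        exact hv.exists_sub (setup i) S.f a
      right := fun S hS a b c _ ⟨v, hv⟩ => by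
        haveI := hS.epi_g
        exact hv.exists_quot (setup i) S.g c }
  refine hP.holds (fun η => NumPoly18.nonempty_model
    (fun M N e ⟨v, hv⟩ => ⟨v, hv.of_iso (setup i) e.some⟩) η ?_) hF
  refine ⟨_, KDev4.Val.of_q (setup i) (show Killed i (NumPoly18.ptMod η) from
    ⟨NumPoly18.isCoh_ptMod η, fun U a ha s => ker_smul_push (NumPoly18.ptIdeal η).subschemeι _ U a ?_ s⟩)⟩
  rw [Scheme.IdealSheafData.ker_subschemeι]
  refine (Scheme.IdealSheafData.le_support_iff_le_vanishingIdeal.1 ?_) U ha
  intro x _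
  show x ∈ (i.ker.support : Set X)
  rw [Scheme.Hom.support_ker]
  exact subset_closure (i.surjective x)

theorem bijective_push [IsNoetherian X] [Surjective i]
    [(Scheme.Modules.pushforward i).Additive] [PreservesFiniteLimits (Scheme.Modules.pushforward i)]
    [PreservesFiniteColimits (Scheme.Modules.pushforward i)]
    (hi : ∀ M : X'.Modules, Coh.IsCoh M → Coh.IsCoh ((Scheme.Modules.pushforward i).obj M)) :
    Function.Bijective (SGA6.mapSub (Scheme.Modules.pushforward i) (fun M : (X').Modules => Coh.IsCoh M)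
      (fun M : (X).Modules => Coh.IsCoh M) hi) := by
  haveI : IsLocallyNoetherian X' := LocallyOfFiniteType.isLocallyNoetherian i
  haveI : CompactSpace X' := QuasiCompact.compactSpace_of_compactSpace i
  haveI : IsNoetherian X' := {}
  let μ := SGA6.mapSub (Scheme.Modules.pushforward i) (fun M : (X').Modules => Coh.IsCoh M)
      (fun M : (X).Modules => Coh.IsCoh M) hi
  have hμ : ∀ M, Coh.IsCoh M → μ (kc M) = kc ((Scheme.Modules.pushforward i).obj M) := fun M hM => by
    rw [kc, kc, K0Cat.clSub_of_prop (P := fun M : X'.Modules => Coh.IsCoh M) hM,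
      K0Cat.clSub_of_prop (P := fun M : X.Modules => Coh.IsCoh M) (hi M hM)]
    simp [μ, SGA6.mapSub, SGA6.objMap, FreeAbelianGroup.map_of_apply]
  obtain ⟨φ, hφ⟩ := KDev4.exists_extension (setup i) (exists_val i)
  refine ⟨Function.LeftInverse.injective (g := φ) fun x => ?_, fun y => ?_⟩
  · show φ (μ x) = x
    induction x using K0Cat.clSub_induction with
    | h0 => rw [map_zero, map_zero]
    | hcl M hM =>
      rw [hμ M hM, hφ _ (killed_push i hM)]
      haveI := isIso_counit_closedImm i M hM.1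
      exact kc_iso (asIso ((Scheme.Modules.pullbackPushforwardAdjunction i).counit.app M))
    | hneg a h => rw [map_neg, map_neg, h]
    | hadd a b h1 h2 => rw [map_add, map_add, h1, h2]
  · suffices h : y ∈ μ.range by exact h
    induction y using K0Cat.clSub_induction with
    | h0 => exact zero_mem _
    | hcl F hF =>
      obtain ⟨v, hv⟩ := exists_val i F hF
      refine KDev4.mem_of_val (setup i) μ.range (fun G hG => ?_) hv hF
      refine ⟨kc ((Scheme.Modules.pullback i).obj G), ?_⟩
      rw [hμ _ (M1.isCoh_pullback i hG.1)]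
      haveI := M1.isIso_unit_of_ker_smul i G hG.1.1 hG.2
      exact kc_iso (asIso ((Scheme.Modules.pullbackPushforwardAdjunction i).unit.app G)).symm
    | hneg a h => exact neg_mem h
    | hadd a b h1 h2 => exact add_mem h1 h2

end Groth.Agent.KCoh4
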